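import Cfsg.Agent.Char.Orthogonality
import Cfsg.Agent.Char.Linear
import Cfsg.Agent.CharInd.Kernel
import Cfsg.Agent.BlocksChar.ClassProd

/-!
# A non-central element seen by one non-linear character
-/

noncomputable section

namespace Cfsg.Agent.OneSeen

open Cfsg
open scoped ComplexConjugate Classical

variable {G : Type*} [Group G] [Fintype G]

/-- The linear characters. -/
def linSet (G : Type*) [Group G] [Fintype G] : Finset (IrrCharacter G) :=
  Finset.univ.filter fun ψ : IrrCharacter G => (ψ : G → ℂ) 1 = 1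

theorem mem_linSet {ψ : IrrCharacter G} : ψ ∈ linSet G ↔ (ψ : G → ℂ) 1 = 1 := by
  simp [linSet]

theorem lin_sum (x : G) :
    ∑ ψ ∈ linSet G, (ψ : G → ℂ) x
      = if x ∈ commutator G then ((commutator G).index : ℂ) else 0 := by
  haveI := Char.monoidHom_complex_finite (G := G)
  letI := Fintype.ofFinite (G →* ℂˣ)
  have h1 : ∑ ψ ∈ linSet G, (ψ : G → ℂ) x
      = ∑ f : G →* ℂˣ, (f x : ℂ) := by
    symm
    refine Finset.sum_bij (fun f _ => (Char.monoidHomEquivLinear f).1) (fun f _ => ?_) ?_ ?_ ?_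
    · exact mem_linSet.2 (Char.monoidHomEquivLinear f).2
    · intro f _ f' _ h
      exact Char.monoidHomEquivLinear.injective (Subtype.ext h)
    · intro ψ hψ
      exact ⟨Char.monoidHomEquivLinear.symm ⟨ψ, mem_linSet.1 hψ⟩, Finset.mem_univ _,
        by rw [Equiv.apply_symm_apply]⟩
    · intro f _
      rfl
  rw [h1]
  split_ifs with hx
  · rw [Finset.sum_congr rfl (g := fun _ : G →* ℂˣ => (1 : ℂ)) fun f _ => by
      rw [MonoidHom.mem_ker.1 (Abelianization.commutator_subset_ker f hx), Units.val_one],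
      Finset.sum_const, nsmul_one, Finset.card_univ, ← Nat.card_eq_fintype_card,
      Char.card_monoidHom_complex]
  · have hne : Abelianization.of x ≠ 1 := fun h => hx (by
      rwa [← Abelianization.ker_of, MonoidHom.mem_ker])
    obtain ⟨φ, hφ⟩ :=
      CommGroup.exists_apply_ne_one_of_hasEnoughRootsOfUnity (Abelianization G) ℂ hne
    set f₀ : G →* ℂˣ := φ.comp Abelianization.of with hf₀
    have h2 : (f₀ x : ℂ) * ∑ f : G →* ℂˣ, (f x : ℂ) = ∑ f : G →* ℂˣ, (f x : ℂ) := by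
      rw [Finset.mul_sum]
      exact Fintype.sum_equiv (Equiv.mulLeft f₀) _ _ (fun f => by simp)
    by_contra hS
    exact hφ (Units.ext (mul_right_cancel₀ hS (h2.trans (one_mul _).symm)))

variable {g : G} {χ : IrrCharacter G}

theorem split_sum (hg1 : (χ : G → ℂ) 1 ≠ 1)
    (hother : ∀ ψ : IrrCharacter G, (ψ : G → ℂ) 1 ≠ 1 → ψ ≠ χ → (ψ : G → ℂ) g = 0)
    (F : IrrCharacter G → ℂ) (hF : ∀ ψ : IrrCharacter G, (ψ : G → ℂ) g = 0 → F ψ = 0) :
    ∑ ψ : IrrCharacter G, F ψ = (∑ ψ ∈ linSet G, F ψ) + F χ := by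
  rw [← Finset.sum_filter_add_sum_filter_not Finset.univ
    (fun ψ : IrrCharacter G => (ψ : G → ℂ) 1 = 1) F]
  unfold linSet
  congr 1
  refine Finset.sum_eq_single χ (fun ψ hψ hne => hF ψ (hother ψ (Finset.mem_filter.1 hψ).2 hne))
    (fun h => absurd (Finset.mem_filter.2 ⟨Finset.mem_univ χ, hg1⟩) h)

theorem orth_facts (hg : g ∉ Subgroup.center G) (hg1 : (χ : G → ℂ) 1 ≠ 1)
    (hχg : (χ : G → ℂ) g ≠ 0)
    (hother : ∀ ψ : IrrCharacter G, (ψ : G → ℂ) 1 ≠ 1 → ψ ≠ χ → (ψ : G → ℂ) g = 0) :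
    g ∈ commutator G ∧ (χ : G → ℂ) g = -(((commutator G).index : ℂ) / (χ : G → ℂ) 1) ∧
      (∀ x, x ∉ commutator G → (χ : G → ℂ) x = 0) ∧
      (∀ x, x ∈ commutator G → IsConj g x ∨ (χ : G → ℂ) x = (χ : G → ℂ) 1) := by
  have hgne : g ≠ 1 := fun h => hg (h ▸ Subgroup.one_mem _)
  obtain ⟨m, hm, hm1⟩ := Char.irr_one_pos χ.2
  have h1ne : (χ : G → ℂ) 1 ≠ 0 := by rw [hm1]; exact_mod_cast hm.ne'
  have h0 := Char.sum_irr_degree_mul g
  rw [if_neg hgne, split_sum hg1 hother _ (fun ψ h => by rw [h, mul_zero]),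
    Finset.sum_congr rfl (g := fun ψ : IrrCharacter G => (ψ : G → ℂ) g) fun ψ hψ => by
      rw [mem_linSet.1 hψ, one_mul], lin_sum] at h0
  have hgG : g ∈ commutator G := by
    by_contra h
    rw [if_neg h, zero_add] at h0
    exact hχg ((mul_eq_zero.1 h0).resolve_left h1ne)
  rw [if_pos hgG] at h0
  set n := (commutator G).index with hn
  have hn0 : (n : ℂ) ≠ 0 := by exact_mod_cast Subgroup.index_ne_zero_of_finite
  have hval : (χ : G → ℂ) g = -((n : ℂ) / (χ : G → ℂ) 1) := by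
    field_simp
    linear_combination h0
  have hreal : conj ((χ : G → ℂ) g) = (χ : G → ℂ) g := by
    rw [hval, hm1]
    simp
  have hrow : ∀ x : G, ¬ IsConj g x →
      (if x ∈ commutator G then (n : ℂ) else 0) + (χ : G → ℂ) x * (χ : G → ℂ) g = 0 := by
    intro x hx
    have h2 := Char.sum_irr_mul_conj x g
    rw [if_neg (fun h => hx h.symm), split_sum hg1 hother _ (fun ψ h => by rw [h, map_zero, mul_zero]),
      hreal, Finset.sum_congr rfl (g := fun ψ : IrrCharacter G => (ψ : G → ℂ) x) fun ψ hψ => by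
        rw [BlocksChar.linear_eq_one_of_mem_commutator (Char.isCharacter_of_irr ψ.2)
            (mem_linSet.1 hψ) hgG, map_one, mul_one], lin_sum] at h2
    exact h2
  refine ⟨hgG, hval, fun x hx => ?_, fun x hx => ?_⟩
  · have hnc : ¬ IsConj g x := fun h => by
      obtain ⟨c, rfl⟩ := isConj_iff.1 h
      exact hx ((inferInstance : (commutator G).Normal).conj_mem g hgG c)
    have h := hrow x hnc
    rw [if_neg hx, zero_add] at h
    exact (mul_eq_zero.1 h).resolve_right hχg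
  · rcases em (IsConj g x) with h | h
    · exact Or.inl h
    · have h2 := hrow x h
      rw [if_pos hx, hval] at h2
      field_simp at h2
      right
      rw [mul_zero, mul_eq_zero, or_iff_right hn0] at h2
      linear_combination -h2

/-- Every non-linear character with the kernel of `χ` in its kernel is `χ`. -/
theorem eq_of_ker (hgG : g ∈ commutator G)
    (hother : ∀ ψ : IrrCharacter G, (ψ : G → ℂ) 1 ≠ 1 → ψ ≠ χ → (ψ : G → ℂ) g = 0)
    (hK : ∀ x, x ∈ commutator G → IsConj g x ∨ (χ : G → ℂ) x = (χ : G → ℂ) 1)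
    (hKG : ∀ x, (χ : G → ℂ) x = (χ : G → ℂ) 1 → x ∈ commutator G)
    (ψ : IrrCharacter G) (hψ1 : (ψ : G → ℂ) 1 ≠ 1)
    (hker : ∀ x, (χ : G → ℂ) x = (χ : G → ℂ) 1 → (ψ : G → ℂ) x = (ψ : G → ℂ) 1) : ψ = χ := by
  by_contra hne
  have hg0 := hother ψ hψ1 hne
  obtain ⟨m, hm, hm1⟩ := Char.irr_one_pos ψ.2
  have h1 : ∑ f ∈ linSet G, classInner (f : G → ℂ) (ψ : G → ℂ) = 0 :=
    Finset.sum_eq_zero fun f hf => Char.classInner_irr_ne f.2 ψ.2 fun h =>
      hψ1 (by rw [← h]; exact mem_linSet.1 hf)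
  simp only [classInner, ← Finset.mul_sum] at h1
  rw [Finset.sum_comm] at h1
  simp only [← Finset.sum_mul, lin_sum, ite_mul, zero_mul, ← Finset.sum_filter, ← Finset.mul_sum] at h1
  have hn0 : ((commutator G).index : ℂ) ≠ 0 := by exact_mod_cast Subgroup.index_ne_zero_of_finite
  have h2 := (mul_eq_zero.1 ((mul_eq_zero.1 h1).resolve_left
    (inv_ne_zero Char.card_ne_zero_complex))).resolve_left hn0
  have hval : ∀ x ∈ Finset.univ.filter (fun x : G => x ∈ commutator G),
      conj ((ψ : G → ℂ) x) = if (χ : G → ℂ) x = (χ : G → ℂ) 1 then (m : ℂ) else 0 := by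
    intro x hx
    split_ifs with h
    · rw [hker x h, hm1, map_natCast]
    · rcases hK x (Finset.mem_filter.1 hx).2 with h' | h'
      · rw [← Char.isClassFunction_eq_of_isConj (Char.irr_isClassFunction ψ.2) h', hg0, map_zero]
      · exact absurd h' h
  rw [Finset.sum_congr rfl hval, ← Finset.sum_filter, Finset.sum_const, nsmul_eq_mul,
    mul_eq_zero, Nat.cast_eq_zero, Nat.cast_eq_zero, Finset.card_eq_zero] at h2
  rcases h2 with h2 | h2
  · have h3 : (1 : G) ∈ (∅ : Finset G) := h2 ▸ Finset.mem_filter.2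
      ⟨Finset.mem_filter.2 ⟨Finset.mem_univ _, Subgroup.one_mem _⟩, rfl⟩
    exact absurd h3 (Finset.notMem_empty _)
  · omega

/-- An element central modulo the kernel is not a zero of the character. -/
theorem ne_zero_of_central (χ : IrrCharacter G) {y : G}
    (h : ∀ a : G, (χ : G → ℂ) (y * (a * y⁻¹ * a⁻¹)) = (χ : G → ℂ) 1) :
    (χ : G → ℂ) y * conj ((χ : G → ℂ) y) = (χ : G → ℂ) 1 ^ 2 := by
  have h1 := BlocksChar.sum_conj_mul χ.2 y y⁻¹
  simp only [h, Finset.sum_const, Finset.card_univ, nsmul_eq_mul, ← Nat.card_eq_fintype_card] at h1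
  obtain ⟨m, hm, hm1⟩ := Char.irr_one_pos χ.2
  have h1ne : (χ : G → ℂ) 1 ≠ 0 := by rw [hm1]; exact_mod_cast hm.ne'
  rw [Char.irr_inv χ.2, eq_div_iff h1ne, mul_assoc, mul_assoc] at h1
  rw [sq]
  exact (mul_left_cancel₀ Char.card_ne_zero_complex h1).symm

end Cfsg.Agent.OneSeen
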