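import Mathlib

/-!
# A normal `p`-subgroup with one class outside a subgroup

`H` acts regularly on the non-trivial elements of `P / K` and all elements of `P \ K` are conjugate.
Then, for odd `p`, the elements of `P \ K` have order `p`.
-/

namespace Cfsg.Agent.OneSeen

open Subgroup
open scoped commutatorElement

/-- Orbits on `C / B` all of the same length `T.index`. -/
theorem index_dvd_of_free {A : Type*} [Group A] [Finite A] (T B C : Subgroup A) [B.Normal]
    [C.Normal] (hBC : B ≤ C) (h : ∀ a : A, ∀ c ∈ C, c ∉ B → (⁅a, c⁆ ∈ B ↔ a ∈ T)) :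
    T.index ∣ B.relIndex C - 1 := by
  classical
  let π := QuotientGroup.mk' B
  haveI : (C.map π).Normal := Subgroup.Normal.map inferInstance π (QuotientGroup.mk'_surjective B)
  let X := {x : A ⧸ B // x ∈ C.map π ∧ x ≠ 1}
  letI : MulAction A X :=
    { smul := fun a x => ⟨π a * x.1 * (π a)⁻¹, (‹(C.map π).Normal›).conj_mem _ x.2.1 _,
        fun h1 => x.2.2 (conj_eq_one_iff.1 h1)⟩
      one_smul := fun x => Subtype.ext (show π 1 * x.1 * (π 1)⁻¹ = x.1 by simp)
      mul_smul := fun a b x => Subtype.ext (show π (a * b) * x.1 * (π (a * b))⁻¹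
        = π a * (π b * x.1 * (π b)⁻¹) * (π a)⁻¹ by simp [mul_assoc]) }
  have hst : ∀ x : X, MulAction.stabilizer A x = T := by
    intro x
    obtain ⟨c, hc, hcx⟩ := x.2.1
    have hcB : c ∉ B := fun h1 => x.2.2 (hcx ▸ (QuotientGroup.eq_one_iff _).2 h1)
    ext a
    rw [MulAction.mem_stabilizer_iff, ← h a c hc hcB, ← QuotientGroup.eq_one_iff (N := B)]
    constructor
    · intro h1
      have h2 : π a * x.1 * (π a)⁻¹ = x.1 := congrArg Subtype.val h1
      show π ⁅a, c⁆ = 1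
      rw [map_commutatorElement, hcx, commutatorElement_def, h2, mul_inv_cancel]
    · intro h1
      change π ⁅a, c⁆ = 1 at h1
      rw [map_commutatorElement, hcx, commutatorElement_def, mul_inv_eq_one] at h1
      exact Subtype.ext h1
  have hX : Nat.card X = B.relIndex C - 1 := by
    haveI := Fintype.ofFinite (C.map π : Subgroup (A ⧸ B))
    have h1 : Nat.card (C.map π) = B.relIndex C := by
      rw [← Subgroup.relIndex_bot_left (C.map π), ← Subgroup.map_bot π, Subgroup.relIndex_map_map,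
        QuotientGroup.ker_mk', bot_sup_eq, sup_eq_left.2 hBC]
    let e : X ≃ {y : C.map π // y ≠ 1} :=
      { toFun := fun x => ⟨⟨x.1, x.2.1⟩, fun h2 => x.2.2 (congrArg Subtype.val h2)⟩
        invFun := fun y => ⟨y.1.1, y.1.2, fun h2 => y.2 (Subtype.ext h2)⟩
        left_inv := fun x => rfl
        right_inv := fun y => rfl }
    rw [Nat.card_congr e, ← h1, Nat.card_eq_fintype_card, Nat.card_eq_fintype_card,
      Fintype.card_subtype_compl, Fintype.card_subtype_eq]
  haveI : Finite X := inferInstance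
  haveI := Fintype.ofFinite (MulAction.orbitRel.Quotient A X)
  have hcard : Nat.card X = Nat.card (MulAction.orbitRel.Quotient A X) * T.index := by
    rw [Nat.card_congr (MulAction.selfEquivSigmaOrbits A X), Nat.card_sigma]
    have : ∀ ω : MulAction.orbitRel.Quotient A X, Nat.card (MulAction.orbit A ω.out) = T.index := by
      intro ω
      rw [← hst ω.out]
      exact (Nat.card_congr (MulAction.orbitEquivQuotientStabilizer A ω.out))
    rw [Finset.sum_congr rfl fun ω _ => this ω, Finset.sum_const, smul_eq_mul, Finset.card_univ,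
      ← Nat.card_eq_fintype_card]
  exact ⟨_, by rw [← hX, hcard, mul_comm]⟩

/-- `(x y) ^ n` in a group whose commutator of `x` and `y` is central for both. -/
theorem mul_pow_of_central {A : Type*} [Group A] {x y : A} (hx : Commute ⁅y, x⁆ x)
    (hy : Commute ⁅y, x⁆ y) (n : ℕ) :
    (x * y) ^ n = x ^ n * y ^ n * ⁅y, x⁆ ^ n.choose 2 := by
  set c := ⁅y, x⁆ with hc
  have hyx : y * x = c * (x * y) := by rw [hc, commutatorElement_def]; group
  have hm : ∀ m : ℕ, y ^ m * x = c ^ m * (x * y ^ m) := by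
    intro m
    induction m with
    | zero => simp
    | succ m ih =>
      calc y ^ (m + 1) * x = y * (y ^ m * x) := by rw [pow_succ', mul_assoc]
        _ = y * (c ^ m * (x * y ^ m)) := by rw [ih]
        _ = c ^ m * (y * (x * y ^ m)) := by
            rw [← mul_assoc, ← (hy.pow_left m).eq, mul_assoc]
        _ = c ^ m * (c * (x * y) * y ^ m) := by rw [← mul_assoc y, hyx]
        _ = c ^ (m + 1) * (x * y ^ (m + 1)) := by
            rw [pow_succ c, pow_succ' y]; simp only [mul_assoc]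
  induction n with
  | zero => simp
  | succ n ih =>
    have hcx : ∀ i : ℕ, Commute (c ^ i) x := fun i => hx.pow_left i
    have hcy : ∀ i j : ℕ, Commute (c ^ i) (y ^ j) := fun i j => hy.pow_pow i j
    have hcy1 : ∀ i : ℕ, Commute (c ^ i) y := fun i => hy.pow_left i
    rw [pow_succ (x * y), ih, Nat.choose_succ_succ', Nat.choose_one_right]
    calc x ^ n * y ^ n * c ^ n.choose 2 * (x * y)
        = x ^ n * y ^ n * ((x * y) * c ^ n.choose 2) := by
          rw [mul_assoc (x ^ n * y ^ n), ((hcx _).mul_right (hcy1 _)).eq]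
      _ = x ^ n * (y ^ n * x) * y * c ^ n.choose 2 := by simp only [mul_assoc]
      _ = x ^ n * ((x * y ^ n) * c ^ n) * y * c ^ n.choose 2 := by
          rw [hm n, ((hcx n).mul_right (hcy n n)).eq]
      _ = x ^ n * x * (y ^ n * (c ^ n * y)) * c ^ n.choose 2 := by simp only [mul_assoc]
      _ = x ^ n * x * (y ^ n * (y * c ^ n)) * c ^ n.choose 2 := by rw [(hcy1 n).eq]
      _ = x ^ (n + 1) * y ^ (n + 1) * c ^ (n + n.choose 2) := by
          rw [pow_succ x, pow_succ y, pow_add c]; simp only [mul_assoc]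

/-- The standing hypotheses. -/
structure Cond {H : Type*} [Group H] (p : ℕ) (P K : Subgroup H) : Prop where
  nP : P.Normal
  nK : K.Normal
  le : K ≤ P
  ne : ∃ x ∈ P, x ∉ K
  pgroup : IsPGroup p P
  ab : ∀ a b : H, ⁅a, b⁆ ∈ P
  cls : ∀ x ∈ P, x ∉ K → ∀ y ∈ P, y ∉ K → IsConj x y
  reg : ∀ a : H, ∀ x ∈ P, x ∉ K → ⁅a, x⁆ ∈ K → a ∈ P
  comm : ∀ x ∈ P, ∀ y ∈ P, ⁅x, y⁆ ∈ K
  idx : P.index + 1 = K.relIndex P

variable {H : Type*} [Group H] [Finite H] {p : ℕ} {P K : Subgroup H}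

namespace Cond

theorem map (c : Cond p P K) (L : Subgroup H) [L.Normal] (hL : L ≤ K) :
    Cond p (P.map (QuotientGroup.mk' L)) (K.map (QuotientGroup.mk' L)) := by
  have hs := QuotientGroup.mk'_surjective L
  have hmem : ∀ {S : Subgroup H}, L ≤ S → ∀ x : H,
      (QuotientGroup.mk' L x ∈ S.map (QuotientGroup.mk' L) ↔ x ∈ S) := by
    intro S hS x
    rw [← Subgroup.mem_comap, Subgroup.comap_map_eq, QuotientGroup.ker_mk', sup_eq_left.2 hS]
  have hP : L ≤ P := hL.trans c.le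
  refine ⟨c.nP.map _ hs, c.nK.map _ hs, Subgroup.map_mono c.le, ?_, c.pgroup.map _, ?_, ?_, ?_, ?_, ?_⟩
  · obtain ⟨x, hx, hxK⟩ := c.ne
    exact ⟨_, Subgroup.mem_map_of_mem _ hx, fun h => hxK ((hmem hL x).1 h)⟩
  · intro a b
    obtain ⟨a, rfl⟩ := hs a
    obtain ⟨b, rfl⟩ := hs b
    rw [← map_commutatorElement]
    exact Subgroup.mem_map_of_mem _ (c.ab a b)
  · rintro _ ⟨x, hx, rfl⟩ hxK _ ⟨y, hy, rfl⟩ hyK
    exact MonoidHom.map_isConj _ (c.cls x hx (fun h => hxK (Subgroup.mem_map_of_mem _ h)) y hy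
      (fun h => hyK (Subgroup.mem_map_of_mem _ h)))
  · intro a x' hx' hxK h
    obtain ⟨a, rfl⟩ := hs a
    obtain ⟨x, hx, rfl⟩ := hx'
    rw [← map_commutatorElement, hmem hL] at h
    exact Subgroup.mem_map_of_mem _ (c.reg a x hx (fun h1 => hxK (Subgroup.mem_map_of_mem _ h1)) h)
  · rintro _ ⟨x, hx, rfl⟩ _ ⟨y, hy, rfl⟩
    rw [← map_commutatorElement]
    exact Subgroup.mem_map_of_mem _ (c.comm x hx y hy)
  · rw [Subgroup.index_map_eq _ hs (by rw [QuotientGroup.ker_mk']; exact hP),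
      Subgroup.relIndex_map_map, QuotientGroup.ker_mk', sup_eq_left.2 hL, sup_eq_left.2 hP]
    exact c.idx

theorem card_centralizer (c : Cond p P K) {x : H} (hx : x ∈ P) (hxK : x ∉ K) :
    Nat.card (centralizer ({x} : Set H)) = K.relIndex P := by
  classical
  haveI := Fintype.ofFinite H
  have hset : MulAction.orbit (ConjAct H) x = ((P : Set H) \ (K : Set H)) := by
    ext y
    rw [ConjAct.mem_orbit_conjAct]
    constructor
    · intro h
      obtain ⟨g, hg⟩ := isConj_iff.1 h.symm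
      refine ⟨hg ▸ c.nP.conj_mem x hx g, fun hy => hxK ?_⟩
      have h1 := c.nK.conj_mem y hy g⁻¹
      rwa [← hg, inv_inv, show g⁻¹ * (g * x * g⁻¹) * g = x by group] at h1
    · rintro ⟨hy, hyK⟩
      exact c.cls y hy hyK x hx hxK
  have h1 : Nat.card (MulAction.orbit (ConjAct H) x)
      = Nat.card P - Nat.card K := by
    rw [hset, Nat.card_coe_set_eq, Set.ncard_sdiff (show (K : Set H) ⊆ P from c.le),
      ← Nat.card_coe_set_eq, ← Nat.card_coe_set_eq]
    rfl
  have h2 : Nat.card (MulAction.orbit (ConjAct H) x) * Nat.card (centralizer ({x} : Set H))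
      = Nat.card H := by
    have h3 : Nat.card (MulAction.stabilizer (ConjAct H) x)
        = Nat.card (centralizer ({x} : Set H)) := by
      rw [ConjAct.stabilizer_eq_centralizer]
      refine Nat.card_congr (Equiv.subtypeEquiv ConjAct.toConjAct.toEquiv fun y => ?_).symm
      rw [mem_centralizer_singleton_iff, mem_centralizer_singleton_iff]
      exact ConjAct.toConjAct.injective.eq_iff.symm
    rw [← h3, ← Nat.card_prod,
      Nat.card_congr (MulAction.orbitProdStabilizerEquivGroup (ConjAct H) x)]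
    exact Nat.card_congr ConjAct.ofConjAct.toEquiv
  have h4 : Nat.card K * K.relIndex P = Nat.card P := by
    rw [← Subgroup.relIndex_bot_left K, Subgroup.relIndex_mul_relIndex _ _ _ bot_le c.le,
      Subgroup.relIndex_bot_left]
  rw [h1, ← P.card_mul_index, ← h4, ← c.idx, mul_add_one, Nat.add_sub_cancel] at h2
  rw [← c.idx]
  refine Nat.eq_of_mul_eq_mul_left (Nat.mul_pos (Nat.card_pos (α := K))
    (Nat.pos_of_ne_zero P.index_ne_zero_of_finite)) (h2.trans ?_)
  ring

theorem centralizer_le (c : Cond p P K) {x : H} (hx : x ∈ P) (hxK : x ∉ K) :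
    centralizer ({x} : Set H) ≤ P := fun a ha => c.reg a x hx hxK (by
  rw [commutatorElement_eq_one_iff_mul_comm.2 (mem_centralizer_singleton_iff.1 ha)]
  exact K.one_mem)

theorem cover (c : Cond p P K) {x : H} (hx : x ∈ P) (hxK : x ∉ K) {k : H} (hk : k ∈ K) :
    ∃ u ∈ P, ⁅x⁻¹, u⁆ = k := by
  classical
  let f : P → K := fun u => ⟨⁅x⁻¹, (u : H)⁆, c.comm _ (P.inv_mem hx) _ u.2⟩
  suffices h : Function.Surjective f by
    obtain ⟨u, hu⟩ := h ⟨k, hk⟩
    exact ⟨u, u.2, congrArg Subtype.val hu⟩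
  -- fibres are cosets of the centralizer
  let C := (centralizer ({x} : Set H)).subgroupOf P
  have hfib : ∀ u v : P, f u = f v → (QuotientGroup.mk u : P ⧸ C) = QuotientGroup.mk v := by
    intro u v h
    rw [QuotientGroup.eq, Subgroup.mem_subgroupOf, Subgroup.coe_mul, Subgroup.coe_inv,
      mem_centralizer_singleton_iff]
    have h1 : (x⁻¹ * u * x⁻¹⁻¹ * (u : H)⁻¹ : H) = x⁻¹ * v * x⁻¹⁻¹ * (v : H)⁻¹ :=
      congrArg Subtype.val h
    rw [inv_inv, mul_assoc, mul_assoc, mul_assoc, mul_assoc, mul_left_cancel_iff] at h1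
    calc (u : H)⁻¹ * v * x = (u : H)⁻¹ * ((v : H) * (x * (v : H)⁻¹)) * v := by group
      _ = (u : H)⁻¹ * ((u : H) * (x * (u : H)⁻¹)) * v := by rw [h1]
      _ = x * ((u : H)⁻¹ * v) := by group
  have hle : (C : Subgroup P).index ≤ Nat.card (Set.range f) := by
    rw [Subgroup.index]
    refine Nat.card_le_card_of_injective (fun q : P ⧸ C => (⟨f q.out, q.out, rfl⟩ : Set.range f)) ?_
    intro q q' h
    have := hfib q.out q'.out (congrArg Subtype.val h)
    rwa [QuotientGroup.out_eq', QuotientGroup.out_eq'] at this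
  have hC : Nat.card C * C.index = Nat.card P := C.card_mul_index
  rw [Nat.card_congr (Subgroup.subgroupOfEquivOfLe (c.centralizer_le hx hxK)).toEquiv,
    c.card_centralizer hx hxK] at hC
  have h4 : K.relIndex P * Nat.card K = Nat.card P := by
    rw [mul_comm, ← Subgroup.relIndex_bot_left K,
      Subgroup.relIndex_mul_relIndex _ _ _ bot_le c.le, Subgroup.relIndex_bot_left]
  have hpos : 0 < K.relIndex P := by rw [← c.idx]; omega
  have hidx : C.index = Nat.card K := Nat.eq_of_mul_eq_mul_left hpos (hC.trans h4.symm)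
  intro k'
  by_contra hk'
  have hlt : Nat.card (Set.range f) < Nat.card K := by
    rw [Nat.card_coe_set_eq, ← Set.ncard_univ K]
    exact Set.ncard_lt_ncard (Set.ssubset_univ_iff.2 fun h => hk' (Set.mem_range.1 (h ▸ Set.mem_univ k')))
  omega

theorem small (c : Cond p P K) {B : Subgroup H} (hB : B ≤ K) (h : ⁅B, P⁆ = ⊥) :
    Nat.card B < K.relIndex P := by
  obtain ⟨x, hx, hxK⟩ := c.ne
  rw [← c.card_centralizer hx hxK]
  have hle : B ≤ centralizer ({x} : Set H) :=
    (Subgroup.commutator_eq_bot_iff_le_centralizer.1 h).trans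
      (Subgroup.centralizer_le (Set.singleton_subset_iff.2 hx))
  refine lt_of_le_of_ne (Subgroup.card_le_of_le hle) fun h1 => hxK (hB ?_)
  rw [Subgroup.eq_of_le_of_card_ge hle h1.ge, mem_centralizer_singleton_iff]

theorem bound {p d e a : ℕ} (hp : 1 < p) (he : 0 < e) (hed : e < d)
    (ha : a ∣ p ^ e - 1) (ha' : a ∣ p ^ d - 1) : (a + 1) * (a + 1) ≤ p ^ d := by
  have hg : a ∣ p ^ e.gcd d - 1 := by
    rw [← Nat.pow_sub_one_gcd_pow_sub_one]
    exact Nat.dvd_gcd ha ha'
  have hgpos : 0 < e.gcd d := Nat.gcd_pos_of_pos_left _ he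
  have hlt : 0 < p ^ e.gcd d - 1 := by
    have := Nat.one_lt_pow hgpos.ne' hp
    omega
  have hle : a + 1 ≤ p ^ e.gcd d := by
    have := Nat.le_of_dvd hlt hg
    omega
  obtain ⟨r, hr⟩ := Nat.gcd_dvd_right e d
  have hge : e.gcd d ≤ e := Nat.gcd_le_left _ he
  have h2 : e.gcd d + e.gcd d ≤ d := by
    rcases Nat.lt_or_ge r 2 with h | h
    · interval_cases r <;> omega
    · calc e.gcd d + e.gcd d = e.gcd d * 2 := by ring
        _ ≤ e.gcd d * r := Nat.mul_le_mul_left _ h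
        _ = d := hr.symm
  calc (a + 1) * (a + 1) ≤ p ^ e.gcd d * p ^ e.gcd d := Nat.mul_le_mul hle hle
    _ = p ^ (e.gcd d + e.gcd d) := (pow_add _ _ _).symm
    _ ≤ p ^ d := Nat.pow_le_pow_right (by omega) h2

theorem counts {q s k z₁ z₂ : ℕ} (hk : (k + 1) * (k + 1) ≤ q) (h1 : s + 1 ≤ z₁) (h2 : s + 1 ≤ z₂)
    (hz : z₁ * z₂ = q) (hsk : s * k + 1 = q) (hs : 0 < s) : False := by
  have h3 : (s + 1) * (s + 1) ≤ q := hz ▸ Nat.mul_le_mul h1 h2
  rcases Nat.le_total s k with h | h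
  · have : (s + 1) * (k + 1) ≤ q := (Nat.mul_le_mul_right _ (by omega)).trans hk
    nlinarith
  · have : (s + 1) * (k + 1) ≤ q := (Nat.mul_le_mul_left _ (by omega)).trans h3
    nlinarith

theorem index_dvd_of_free_in {A : Type*} [Group A] [Finite A] (S T B C : Subgroup A) (hCS : C ≤ S)
    (hBC : B ≤ C) (hTS : T ≤ S) (hB : ∀ a ∈ S, ∀ b ∈ B, a * b * a⁻¹ ∈ B)
    (hC : ∀ a ∈ S, ∀ b ∈ C, a * b * a⁻¹ ∈ C)
    (h : ∀ a ∈ S, ∀ c ∈ C, c ∉ B → (⁅a, c⁆ ∈ B ↔ a ∈ T)) :
    T.relIndex S ∣ B.relIndex C - 1 := by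
  haveI : (B.subgroupOf S).Normal := ⟨fun b hb a => hB a a.2 b hb⟩
  haveI : (C.subgroupOf S).Normal := ⟨fun b hb a => hC a a.2 b hb⟩
  have h1 := index_dvd_of_free (T.subgroupOf S) (B.subgroupOf S) (C.subgroupOf S)
    (fun x hx => hBC hx) (fun a c hc hcB => h a a.2 c hc hcB)
  rwa [Subgroup.relIndex_subgroupOf hCS] at h1

variable [Fact p.Prime]

theorem pow_relIndex (c : Cond p P K) {L B : Subgroup H} (hLB : L ≤ B) (hB : B ≤ P) :
    ∃ e, L.relIndex B = p ^ e := by
  obtain ⟨m, hm⟩ := IsPGroup.iff_card.1 c.pgroup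
  have h1 : L.relIndex B ∣ Nat.card B := Subgroup.index_dvd_card _
  obtain ⟨e, -, he⟩ := (Nat.dvd_prime_pow (Fact.out : p.Prime)).1
    (hm ▸ h1.trans (Subgroup.card_dvd_of_le hB))
  exact ⟨e, he⟩

/-- If `[K, P]` is central in `P` then it is trivial. -/
theorem central_case (c : Cond p P K) (hc : ⁅⁅K, P⁆, P⁆ = ⊥) : ⁅K, P⁆ = ⊥ := by
  classical
  haveI := c.nP
  haveI := c.nK
  by_contra hU
  set U := ⁅K, P⁆ with hUdef
  have hUK : U ≤ K := Subgroup.commutator_le_left _ _
  have hUcen : ∀ u ∈ U, ∀ v ∈ P, u * v = v * u := fun u hu v hv =>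
    ((Subgroup.mem_centralizer_iff.1
      (Subgroup.commutator_eq_bot_iff_le_centralizer.1 hc hu)) v hv).symm
  obtain ⟨x₀, hx₀, hx₀K⟩ := c.ne
  have hKK : ⁅⁅P, P⁆, K⁆ = ⊥ := by
    refine Subgroup.commutator_commutator_eq_bot_of_rotate ?_ hc
    rwa [Subgroup.commutator_comm P K]
  have hKK' : ∀ w ∈ K, ∀ v ∈ K, ⁅w, v⁆ = 1 := by
    intro w hw v hv
    obtain ⟨u, hu, rfl⟩ := c.cover hx₀ hx₀K hw
    exact Subgroup.mem_bot.1 (hKK ▸ Subgroup.commutator_mem_commutator
      (Subgroup.commutator_mem_commutator (P.inv_mem hx₀) hu) hv)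
  have hUsmall : Nat.card U < K.relIndex P := c.small hUK hc
  let π := QuotientGroup.mk' U
  have hKUsmall : U.relIndex K < K.relIndex P := by
    have h1 := (c.map U hUK).small (B := K.map π) le_rfl (by
      rw [← Subgroup.map_commutator, ← hUdef, QuotientGroup.map_mk'_self])
    rwa [Subgroup.relIndex_map_map, QuotientGroup.ker_mk', sup_eq_left.2 hUK,
      sup_eq_left.2 (hUK.trans c.le), ← Subgroup.relIndex_bot_left (K.map π),
      ← Subgroup.map_bot π, Subgroup.relIndex_map_map, QuotientGroup.ker_mk', bot_sup_eq,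
      sup_eq_left.2 hUK] at h1
  -- `L`: the elements of `K` commuting with `P`
  set L := K ⊓ centralizer (P : Set H) with hLdef
  haveI : L.Normal := Subgroup.normal_inf_normal _ _
  have hUL : U ≤ L := le_inf hUK (Subgroup.commutator_eq_bot_iff_le_centralizer.1 hc)
  obtain ⟨L₀, ⟨hL₀n, hLL₀, hL₀K⟩, hmin⟩ : ∃ L₀ : Subgroup H,
      Minimal (fun X : Subgroup H => X.Normal ∧ L < X ∧ X ≤ K) L₀ := by
    obtain ⟨X, -, hX⟩ := (Set.toFinite {X : Subgroup H | X.Normal ∧ L < X ∧ X ≤ K}).exists_le_minimal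
      (a := K) ⟨c.nK, lt_of_le_of_ne inf_le_left (fun h => hU
        (Subgroup.commutator_eq_bot_iff_le_centralizer.2 (h ▸ inf_le_right))), le_rfl⟩
    exact ⟨X, hX⟩
  haveI := hL₀n
  obtain ⟨w, hw, hwL⟩ := SetLike.exists_of_lt hLL₀
  let π' := QuotientGroup.mk' L
  let T : H → Subgroup H := fun y => (centralizer ({π' y} : Set (H ⧸ L))).comap π'
  have hT : ∀ a y : H, a ∈ T y ↔ ⁅a, y⁆ ∈ L := by
    intro a y
    show π' a ∈ centralizer ({π' y} : Set (H ⧸ L)) ↔ _
    rw [mem_centralizer_singleton_iff, ← commutatorElement_eq_one_iff_mul_comm,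
      ← map_commutatorElement]
    exact QuotientGroup.eq_one_iff _
  have hPT : ∀ y ∈ K, P ≤ T y := fun y hy u hu => (hT u y).2 (hUL (by
    rw [hUdef, Subgroup.commutator_comm]
    exact Subgroup.commutator_mem_commutator hu hy))
  have hnorm : ∀ S : Subgroup H, P ≤ S → S.Normal := fun S hS => ⟨fun s hs a => by
    have h1 := S.mul_mem (hS (c.ab a s)) hs
    rwa [show ⁅a, s⁆ * s = a * s * a⁻¹ by rw [commutatorElement_def]; group] at h1⟩
  have hTeq : ∀ y ∈ L₀, y ∉ L → ∀ z ∈ L₀, T y ≤ T z := by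
    intro y hy hyL z hz
    haveI := hnorm (T y) (hPT y (hL₀K hy))
    let X : Subgroup H := L₀ ⊓ (centralizer (((T y).map π') : Set (H ⧸ L))).comap π'
    haveI : ((T y).map π').Normal :=
      Subgroup.Normal.map inferInstance _ (QuotientGroup.mk'_surjective L)
    haveI : X.Normal := Subgroup.normal_inf_normal _ _
    have hLX : L ≤ X := le_inf hLL₀.le (fun l hl => by
      show π' l ∈ centralizer _
      rw [show π' l = 1 from (QuotientGroup.eq_one_iff _).2 hl]
      exact one_mem _)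
    have hyX : y ∈ X := ⟨hy, by
      show π' y ∈ centralizer _
      rw [Subgroup.mem_centralizer_iff]
      rintro _ ⟨a, ha, rfl⟩
      exact mem_centralizer_singleton_iff.1 ha⟩
    have h1 : L₀ ≤ X := hmin ⟨inferInstance, lt_of_le_of_ne hLX (fun h => hyL (h ▸ hyX)),
      inf_le_left.trans hL₀K⟩ inf_le_left
    intro a ha
    have h2 : π' z ∈ centralizer (((T y).map π') : Set (H ⧸ L)) := (h1 hz).2
    show π' a ∈ centralizer ({π' z} : Set (H ⧸ L))
    rw [mem_centralizer_singleton_iff]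
    exact Subgroup.mem_centralizer_iff.1 h2 _ (Subgroup.mem_map_of_mem _ ha)
  set S := T w with hS
  have hPS : P ≤ S := hPT w (hL₀K hw)
  have hfree : S.index ∣ L.relIndex L₀ - 1 := index_dvd_of_free S L L₀ hLL₀.le (fun a y hy hyL => by
    rw [← hT]
    exact ⟨fun h => hTeq y hy hyL w hw h, fun h => hTeq w hw hwL y hy h⟩)
  -- the kernel `Z` of commutation with `w`
  have hwU : ∀ v ∈ P, ⁅w, v⁆ ∈ U := fun v hv => Subgroup.commutator_mem_commutator (hL₀K hw) hv
  let f : P →* U := MonoidHom.mk' (fun v => ⟨⁅w, (v : H)⁆, hwU v v.2⟩) (fun v v' => Subtype.ext (by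
    show ⁅w, (v : H) * v'⁆ = ⁅w, (v : H)⁆ * ⁅w, (v' : H)⁆
    have h := hUcen _ (hwU v' v'.2) v v.2
    calc ⁅w, (v : H) * v'⁆ = ⁅w, (v : H)⁆ * (v * ⁅w, (v' : H)⁆ * (v : H)⁻¹) := by
          simp only [commutatorElement_def]; group
      _ = _ := by rw [← h, mul_inv_cancel_right]))
  set Z := f.ker.map P.subtype with hZ
  have hmemZ : ∀ v, v ∈ Z ↔ v ∈ P ∧ ⁅w, v⁆ = 1 := by
    intro v
    constructor
    · rintro ⟨⟨u, hu⟩, h, rfl⟩
      exact ⟨hu, congrArg Subtype.val (MonoidHom.mem_ker.1 h)⟩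
    · exact fun h => ⟨⟨v, h.1⟩, MonoidHom.mem_ker.2 (Subtype.ext h.2), rfl⟩
  have hZP : Z ≤ P := fun v hv => ((hmemZ v).1 hv).1
  have hKZ : K ≤ Z := fun v hv => (hmemZ v).2 ⟨c.le hv, hKK' w (hL₀K hw) v hv⟩
  have hSw : ∀ a ∈ S, ∀ v ∈ Z, a * v * a⁻¹ ∈ Z := by
    intro a ha v hv
    obtain ⟨hvP, hv1⟩ := (hmemZ v).1 hv
    refine (hmemZ _).2 ⟨c.nP.conj_mem v hvP a, ?_⟩
    have hl : ⁅a, w⁆ ∈ centralizer (P : Set H) := ((hT a w).1 ha).2
    have h1 : ∀ u ∈ P, u * ⁅a, w⁆ = ⁅a, w⁆ * u := Subgroup.mem_centralizer_iff.1 hl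
    have h2 : Commute (a * w * a⁻¹) (a * v * a⁻¹) :=
      (show Commute w v from commutatorElement_eq_one_iff_mul_comm.1 hv1).map (MulAut.conj a).toMonoidHom
    have h3 : Commute ⁅a, w⁆ (a * v * a⁻¹) := (h1 _ (c.nP.conj_mem v hvP a)).symm
    have h4 : w = ⁅a, w⁆⁻¹ * (a * w * a⁻¹) := by rw [commutatorElement_def]; group
    rw [commutatorElement_eq_one_iff_mul_comm]
    conv_lhs => rw [h4]
    conv_rhs => rw [h4]
    exact (h3.inv_left.mul_left h2).eq
  have hKmem : ∀ a : H, ∀ k ∈ K, a * k * a⁻¹ ∈ K := fun a k hk => c.nK.conj_mem k hk a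
  have hcomm1 : ∀ a : H, ∀ v ∈ P, a ∈ P → ⁅a, v⁆ ∈ K := fun a v hv ha => c.comm a ha v hv
  have hs1 : P.relIndex S ∣ K.relIndex Z - 1 := index_dvd_of_free_in S P K Z (hZP.trans hPS) hKZ hPS
    (fun a _ => hKmem a) hSw (fun a _ v hv hvK =>
      ⟨fun h => c.reg a v (hZP hv) hvK h, hcomm1 a v (hZP hv)⟩)
  have hs2 : P.relIndex S ∣ Z.relIndex P - 1 := index_dvd_of_free_in S P Z P hPS hZP hPS hSw
    (fun a _ v hv => c.nP.conj_mem v hv a) (fun a ha v hv hvZ => ⟨fun h => ?_,
      fun h => hKZ (hcomm1 a v hv h)⟩)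
  swap
  · by_contra haP
    -- `z ↦ [a, z]` permutes `Z / K`
    haveI : (K.subgroupOf Z).Normal := ⟨fun k hk z => hKmem z k hk⟩
    have hmap : ∀ z : Z, ⁅a, (z : H)⁆ ∈ Z := fun z => by
      rw [commutatorElement_def]
      exact Z.mul_mem (hSw a ha z z.2) (Z.inv_mem z.2)
    let φ : Z →* Z ⧸ K.subgroupOf Z := MonoidHom.mk'
      (fun z => QuotientGroup.mk' _ ⟨⁅a, (z : H)⁆, hmap z⟩) (fun z z' => by
      rw [← map_mul, QuotientGroup.mk'_apply, QuotientGroup.mk'_apply, QuotientGroup.eq,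
        Subgroup.mem_subgroupOf]
      have h1 : ⁅a, (z : H) * z'⁆ = ⁅a, (z : H)⁆ * (z * ⁅a, (z' : H)⁆ * (z : H)⁻¹) := by
        simp only [commutatorElement_def]; group
      show ((⁅a, (z : H) * z'⁆ : H))⁻¹ * (⁅a, (z : H)⁆ * ⁅a, (z' : H)⁆) ∈ K
      rw [h1, show (⁅a, (z : H)⁆ * ((z : H) * ⁅a, (z' : H)⁆ * (z : H)⁻¹))⁻¹ *
        (⁅a, (z : H)⁆ * ⁅a, (z' : H)⁆) = ⁅(z : H), ⁅a, (z' : H)⁆⁻¹⁆ by
          simp only [commutatorElement_def]; group]
      exact c.comm _ (hZP z.2) _ (P.inv_mem (hZP (hmap z'))))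
    have hker : φ.ker = K.subgroupOf Z := by
      ext z
      rw [MonoidHom.mem_ker, MonoidHom.mk'_apply, QuotientGroup.mk'_apply,
        QuotientGroup.eq_one_iff, Subgroup.mem_subgroupOf, Subgroup.mem_subgroupOf]
      refine ⟨fun h1 => ?_, fun h1 => ?_⟩
      · by_contra hzK
        exact haP (c.reg a z (hZP z.2) hzK h1)
      · show ⁅a, (z : H)⁆ ∈ K
        rw [commutatorElement_def]
        exact K.mul_mem (hKmem a _ h1) (K.inv_mem h1)
    have hsurj : Function.Surjective φ := by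
      rw [← MonoidHom.range_eq_top]
      refine Subgroup.eq_top_of_card_eq _ ?_
      rw [← Subgroup.index_ker, hker, Subgroup.index]
    obtain ⟨z, hz⟩ := hsurj (QuotientGroup.mk' _ ⟨⁅a, v⁆, h⟩)
    rw [MonoidHom.mk'_apply, QuotientGroup.mk'_apply, QuotientGroup.mk'_apply, QuotientGroup.eq,
      Subgroup.mem_subgroupOf] at hz
    change ⁅a, (z : H)⁆⁻¹ * ⁅a, v⁆ ∈ K at hz
    refine haP (c.reg a ((z : H)⁻¹ * v) (P.mul_mem (P.inv_mem (hZP z.2)) hv) (fun h1 => hvZ ?_) ?_)
    · have := Z.mul_mem z.2 (hKZ h1)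
      rwa [mul_inv_cancel_left] at this
    · rw [show ⁅a, (z : H)⁻¹ * v⁆ = (z : H)⁻¹ * (⁅a, (z : H)⁆⁻¹ * ⁅a, v⁆) * ((z : H)⁻¹)⁻¹ by
        simp only [commutatorElement_def]; group]
      exact hKmem _ _ hz
  -- indices
  set q := K.relIndex P with hq
  have hq1 : P.index + 1 = q := c.idx
  have hz : K.relIndex Z * Z.relIndex P = q := Subgroup.relIndex_mul_relIndex _ _ _ hKZ hZP
  have hsk : P.relIndex S * S.index = P.index := Subgroup.relIndex_mul_index hPS
  have hpos : 0 < P.relIndex S := Nat.pos_of_ne_zero fun h0 => by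
    rw [h0, zero_mul] at hsk
    exact P.index_ne_zero_of_finite hsk.symm
  have hz2 : Z.relIndex P ≠ 1 := by
    rw [Ne, Subgroup.relIndex_eq_one]
    intro h1
    refine hwL ⟨hL₀K hw, Subgroup.mem_centralizer_iff.2 fun v hv => ?_⟩
    exact (commutatorElement_eq_one_iff_mul_comm.1 ((hmemZ v).1 (h1 hv)).2).symm
  have hz1 : K.relIndex Z ≠ 1 := by
    intro h1
    rw [h1, one_mul] at hz
    have h2 : Nat.card f.range ≤ Nat.card U := Subgroup.card_le_card_group _
    rw [← Subgroup.index_ker] at h2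
    have h3 : Z.relIndex P = f.ker.index := by
      rw [hZ, Subgroup.relIndex, Subgroup.subgroupOf,
        Subgroup.comap_map_eq_self_of_injective P.subtype_injective]
    rw [h3] at hz
    omega
  have hz0 : K.relIndex Z ≠ 0 ∧ Z.relIndex P ≠ 0 :=
    mul_ne_zero_iff.1 (hz.symm ▸ (by omega : q ≠ 0))
  obtain ⟨d, hd⟩ := c.pow_relIndex c.le le_rfl
  obtain ⟨e, he⟩ := c.pow_relIndex hLL₀.le (hL₀K.trans c.le)
  have hlt : L.relIndex L₀ ≤ U.relIndex K := by
    have h1 : U.relIndex L * L.relIndex K = U.relIndex K :=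
      Subgroup.relIndex_mul_relIndex _ _ _ hUL inf_le_left
    have h2 : L.relIndex L₀ * L₀.relIndex K = L.relIndex K :=
      Subgroup.relIndex_mul_relIndex _ _ _ hLL₀.le hL₀K
    have h3 : U.relIndex K ≠ 0 := Subgroup.index_ne_zero_of_finite
    exact Nat.le_of_dvd (Nat.pos_of_ne_zero h3) ((Dvd.intro _ h2).trans (Dvd.intro_left _ h1))
  have hne1 : L.relIndex L₀ ≠ 1 := by
    rw [Ne, Subgroup.relIndex_eq_one]
    exact fun h => hwL (h hw)
  have hp := (Fact.out : p.Prime).one_lt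
  have he0 : 0 < e := Nat.pos_of_ne_zero fun h => hne1 (by rw [he, h, pow_zero])
  have hed : e < d := (Nat.pow_lt_pow_iff_right hp).1 (by rw [← hd, ← he]; omega)
  have hk := bound hp he0 hed (he ▸ hfree) (by
    rw [← hd, show K.relIndex P = P.index + 1 from hq1.symm, Nat.add_sub_cancel, ← hsk]
    exact Dvd.intro_left _ rfl)
  replace hk : _ ≤ q := hd ▸ hk
  refine counts hk ?_ ?_ hz (by rw [hsk, hq1]) hpos
  · have := Nat.le_of_dvd (by omega) hs1
    omega
  · have := Nat.le_of_dvd (by omega) hs2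
    omega

theorem commutator_eq_bot (c : Cond p P K) : ⁅K, P⁆ = ⊥ := by
  haveI := c.nP
  haveI := c.nK
  set U := ⁅K, P⁆ with hUdef
  have hUK : U ≤ K := Subgroup.commutator_le_left _ _
  set V := ⁅U, P⁆ with hVdef
  have hVU : V ≤ U := Subgroup.commutator_le_left _ _
  have h := (c.map V (hVU.trans hUK)).central_case (by
    rw [← Subgroup.map_commutator, ← hUdef, ← Subgroup.map_commutator, ← hVdef,
      QuotientGroup.map_mk'_self])
  rw [← Subgroup.map_commutator, ← hUdef, Subgroup.map_eq_bot_iff, QuotientGroup.ker_mk'] at h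
  haveI : Group.IsNilpotent P := c.pgroup.isNilpotent
  obtain ⟨n, hn⟩ := Subgroup.nilpotent_iff_lowerCentralSeries.1 ‹Group.IsNilpotent P›
  have key : ∀ i, U ≤ ((⊤ : Subgroup P).lowerCentralSeries i).map P.subtype := by
    intro i
    induction i with
    | zero =>
      rw [Subgroup.lowerCentralSeries_zero, ← MonoidHom.range_eq_map, Subgroup.range_subtype]
      exact hUK.trans c.le
    | succ i ih =>
      refine h.trans ?_
      rw [hVdef, Subgroup.lowerCentralSeries_succ, Subgroup.map_commutator]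
      refine Subgroup.commutator_mono ih ?_
      rw [← MonoidHom.range_eq_map, Subgroup.range_subtype]
  exact le_bot_iff.1 ((key n).trans (by rw [hn, Subgroup.map_bot]))

/-- For odd `p` all elements outside `K` have order `p`. -/
theorem pow_eq_one (c : Cond p P K) (hp2 : p ≠ 2) {x : H} (hx : x ∈ P) (hxK : x ∉ K) :
    x ^ p = 1 := by
  classical
  have hp : p.Prime := Fact.out
  haveI := c.nP
  haveI := c.nK
  have hbot := c.commutator_eq_bot
  have hcen : ∀ k ∈ K, ∀ v ∈ P, Commute k v := fun k hk v hv =>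
    (Subgroup.mem_centralizer_iff.1
      (Subgroup.commutator_eq_bot_iff_le_centralizer.1 hbot hk) v hv).symm
  have hsmall : Nat.card K < K.relIndex P := c.small le_rfl hbot
  -- `p`-th powers lie in `K`
  have hexp : ∀ y ∈ P, y ^ p ∈ K := by
    intro y hy
    by_cases hyK : y ∈ K
    · exact K.pow_mem hyK _
    by_contra hn
    obtain ⟨g, hg⟩ := isConj_iff.1 (c.cls y hy hyK _ (P.pow_mem hy p) hn)
    obtain ⟨m, hm⟩ := c.pgroup ⟨y, hy⟩
    obtain ⟨j, -, hj⟩ := (Nat.dvd_prime_pow hp).1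
      (orderOf_dvd_of_pow_eq_one (show y ^ p ^ m = 1 from congrArg Subtype.val hm))
    have h1 : orderOf (y ^ p) = orderOf y := by
      rw [← hg]
      exact orderOf_injective (MulAut.conj g).toMonoidHom (MulAut.conj g).injective y
    rcases j with _ | j
    · rw [pow_zero, orderOf_eq_one_iff] at hj
      exact hyK (hj ▸ K.one_mem)
    · rw [orderOf_pow' y hp.ne_zero, hj, Nat.gcd_eq_right (Dvd.intro_left _ (pow_succ p j).symm),
        pow_succ, Nat.mul_div_cancel _ hp.pos] at h1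
      have := Nat.eq_of_mul_eq_mul_left (pow_pos hp.pos j) ((mul_one (p ^ j)).trans h1)
      exact hp.ne_one this.symm
  have hmul : ∀ u ∈ P, ∀ v ∈ P, (u * v) ^ p = u ^ p * v ^ p := by
    intro u hu v hv
    have hk := c.comm v hv u hu
    have hc1 : ⁅v, u⁆ ^ p = 1 := by
      have hm : ∀ m : ℕ, ⁅v, u⁆ ^ m = ⁅v ^ m, u⁆ := by
        intro m
        induction m with
        | zero => simp
        | succ m ih =>
          rw [pow_succ, ih, pow_succ v, show ⁅v ^ m * v, u⁆ = v ^ m * ⁅v, u⁆ * (v ^ m)⁻¹ * ⁅v ^ m, u⁆ by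
            simp only [commutatorElement_def]; group,
            ← (hcen _ hk (v ^ m) (P.pow_mem hv m)).eq, mul_inv_cancel_right]
          exact ((hcen _ hk _ (c.le (c.comm _ (P.pow_mem hv m) u hu))).eq).symm
      rw [hm, commutatorElement_eq_one_iff_mul_comm]
      exact (hcen _ (hexp v hv) u hu).eq
    obtain ⟨r, hr⟩ := hp.dvd_choose_self (k := 2) (by norm_num) (by have := hp.two_le; omega)
    rw [mul_pow_of_central (hcen _ hk u hu) (hcen _ hk v hv), hr, pow_mul, hc1, one_pow, mul_one]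
  let F : P →* K := MonoidHom.mk' (fun v => ⟨(v : H) ^ p, hexp v v.2⟩)
    (fun u v => Subtype.ext (hmul u u.2 v v.2))
  have hy : ∃ y ∈ P, y ∉ K ∧ y ^ p = 1 := by
    by_contra hno
    have hle : F.ker ≤ K.subgroupOf P := fun v hv => by
      by_contra h
      exact hno ⟨v, v.2, h, congrArg Subtype.val (MonoidHom.mem_ker.1 hv)⟩
    have h1 : (K.subgroupOf P).index ∣ F.ker.index := Subgroup.index_dvd_of_le hle
    rw [Subgroup.index_ker] at h1
    have h2 := Nat.le_of_dvd Nat.card_pos h1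
    have h3 : Nat.card F.range ≤ Nat.card K := Subgroup.card_le_card_group _
    rw [Subgroup.relIndex] at hsmall
    omega
  obtain ⟨y, hyP, hyK, hy1⟩ := hy
  obtain ⟨g, hg⟩ := isConj_iff.1 (c.cls y hyP hyK x hx hxK)
  rw [← hg, conj_pow, hy1, mul_one, mul_inv_cancel]

end Cond

end Cfsg.Agent.OneSeen
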